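import Groth.Agent.Lib.RelAssDim8.Indep
import Groth.Agent.Lib.RelAssCrit8.Apply
import Groth.Agent.Lib.QSec28.Scheme
import Groth.Prelude.Def_Dual3

/-!
# The relative dimension of the closure of a relative associated point
-/

set_option autoImplicit false
set_option backward.isDefEq.respectTransparency false
set_option linter.style.haveILetI false
set_option maxHeartbeats 400000

universe u

open CategoryTheory CategoryTheory.Limits AlgebraicGeometry IsLocalRing
open scoped TensorProduct

noncomputable section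

namespace GrothLib.RelAssDim8

variable {X S : Scheme.{u}} (f : X ⟶ S) (F : X.Modules) [F.IsQuasicoherent]

/-- A relative associated point gives a top section of the fibre module. -/
theorem exists_isTop {V : S.Opens} (hV : IsAffineOpen V) {U : X.Opens} (hU : IsAffineOpen U)
    (e : U ≤ f ⁻¹ᵁ V) (y : X) (hy : y ∈ U)
    [Algebra Γ(S, V) Γ(X, U)] (halg : algebraMap Γ(S, V) Γ(X, U) = (f.appLE V U e).hom)
    [Module Γ(S, V) Γ(F, U)] [IsScalarTower Γ(S, V) Γ(X, U) Γ(F, U)]
    (h : y ∈ MoreMor.relAss f F) :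
    ∃ n : Γ(F, U), IsTop (WeakAss.primeAt (f y) (e hy)) (WeakAss.primeAt y hy) n := by
  classical
  let A := Γ(S, V)
  let B := Γ(X, U)
  let N := Γ(F, U)
  let p := WeakAss.primeAt (f y) (e hy)
  let q := WeakAss.primeAt y hy
  let Ox := X.presheaf.stalk y
  let M := F.presheaf.stalk y
  letI := X.presheaf.algebra_section_stalk ⟨y, hy⟩
  haveI := FlatFP.isLocalization_stalk_primeAt hU hy
  letI : Module B M := Module.compHom _ (X.presheaf.germ U y hy).hom
  haveI : IsScalarTower B Ox M := IsScalarTower.of_algebraMap_smul fun _ _ => rfl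
  obtain ⟨g, hg, -⟩ := FlatFP.isLocalizedModule_germ F hU hy
  haveI := hg
  letI algS : Algebra A (S.presheaf.stalk (f y)) := (S.presheaf.germ V (f y) (e hy)).hom.toAlgebra
  haveI : IsLocalization p.primeCompl (S.presheaf.stalk (f y)) :=
    FlatFP.isLocalization_stalk_primeAt hV (e hy)
  let m : Ideal Ox := (maximalIdeal (S.presheaf.stalk (f y))).map (f.stalkMap y).hom
  have hm : m = (p.map (algebraMap A B)).map (algebraMap B Ox) := by
    show Ideal.map _ (maximalIdeal _) = (p.map (algebraMap A B)).map _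
    rw [← IsLocalization.AtPrime.map_eq_maximalIdeal p (S.presheaf.stalk (f y)),
      Ideal.map_map, Ideal.map_map, halg]
    congr 1
    refine RingHom.ext fun a => ?_
    show (f.stalkMap y).hom (S.presheaf.germ V (f y) (e hy) a) = X.presheaf.germ U y hy (f.appLE V U e a)
    show (f.stalkMap y) (S.presheaf.germ V (f y) (e hy) a) = _
    rw [Scheme.Hom.germ_stalkMap_apply]
    exact (TopCat.Presheaf.germ_res_apply X.presheaf (homOfLE e) y hy _).symm
  obtain ⟨hprime, x₀, hx₀⟩ := (h : IsAssociatedPrime (maximalIdeal Ox) (M ⧸ m • (⊤ : Submodule Ox M)))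
  obtain ⟨z, rfl⟩ := Submodule.Quotient.mk_surjective _ x₀
  obtain ⟨⟨n, s⟩, hns⟩ := IsLocalizedModule.surj q.primeCompl g z
  have hJ : ∀ (c : B), ∀ x ∈ p • (⊤ : Submodule A N), c • x ∈ p • (⊤ : Submodule A N) := by
    intro c x hx
    refine Submodule.smul_induction_on hx (fun a ha z _ => ?_) fun a b ha hb => by
      rw [smul_add]; exact add_mem ha hb
    rw [smul_comm]
    exact Submodule.smul_mem_smul ha trivial
  have hin : ∀ x ∈ p • (⊤ : Submodule A N), g x ∈ m • (⊤ : Submodule Ox M) := by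
    intro x hx
    refine Submodule.smul_induction_on hx (fun a ha z _ => ?_) fun a b ha hb => by rw [map_add]; exact add_mem ha hb
    rw [← algebraMap_smul B a z, map_smul, ← algebraMap_smul Ox (algebraMap A B a) (g z)]
    exact Submodule.smul_mem_smul (hm ▸ Ideal.mem_map_of_mem _ (Ideal.mem_map_of_mem _ ha)) trivial
  have hout : ∀ z ∈ m • (⊤ : Submodule Ox M), ∃ v ∉ q, ∃ x ∈ p • (⊤ : Submodule A N), v • z = g x := by
    intro z hz
    refine Submodule.smul_induction_on hz (fun a ha z _ => ?_) fun a b ha hb => ?_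
    · rw [hm] at ha
      obtain ⟨⟨⟨x, hx⟩, v⟩, hxv⟩ := (IsLocalization.mem_map_algebraMap_iff q.primeCompl Ox).1 ha
      obtain ⟨⟨n', v'⟩, hn'⟩ := IsLocalizedModule.surj q.primeCompl g z
      refine ⟨v * v', fun h' => ((inferInstance : q.IsPrime).mem_or_mem h').elim v.2 v'.2, x • n', ?_, ?_⟩
      · clear hxv
        induction hx using Submodule.span_induction generalizing n' with
        | mem b hb =>
          obtain ⟨r, hr, rfl⟩ := hb
          rw [algebraMap_smul]
          exact Submodule.smul_mem_smul hr trivial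
        | zero => rw [zero_smul]; exact zero_mem _
        | add b b' _ _ hb hb' => rw [add_smul]; exact add_mem (hb n' hn') (hb' n' hn')
        | smul c b _ hb => rw [smul_eq_mul, mul_smul]; exact hJ c _ (hb n' hn')
      rw [map_smul, ← hn', Submonoid.smul_def, ← algebraMap_smul Ox x, ← hxv, ← algebraMap_smul Ox (v'.1 : B) z,
        ← algebraMap_smul Ox ((v : B) * v') (a • z), smul_smul, smul_smul, map_mul]
      ring_nf
    · obtain ⟨v, hv, x, hx, hvx⟩ := ha
      obtain ⟨v', hv', x', hx', hvx'⟩ := hb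
      refine ⟨v * v', fun h' => ((inferInstance : q.IsPrime).mem_or_mem h').elim hv hv', v' • x + v • x',
        add_mem (hJ _ _ hx) (hJ _ _ hx'), ?_⟩
      rw [map_add, map_smul, map_smul, ← hvx, ← hvx', smul_add, smul_smul, smul_smul, mul_comm v' v]
  have hsz : ∀ c : Ox, c • g n ∈ m • (⊤ : Submodule Ox M) → c • z ∈ m • (⊤ : Submodule Ox M) := by
    intro c hc
    rw [show g n = algebraMap B Ox (s : B) • z by rw [algebraMap_smul]; exact hns.symm, smul_comm] at hc
    exact (Submodule.smul_mem_iff_of_isUnit _ (IsLocalization.map_units Ox s)).1 hc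
  refine ⟨n, fun u hu hmem => ?_, fun a ha => ?_⟩
  · have h1 := hin _ hmem
    rw [map_smul, ← algebraMap_smul Ox u] at h1
    have h2 := (Submodule.smul_mem_iff_of_isUnit _
      (IsLocalization.map_units Ox (⟨u, hu⟩ : q.primeCompl))).1 h1
    have h3 := hsz 1 (by rwa [one_smul])
    refine hprime.ne_top (hx₀.trans (Ideal.radical_eq_top.2 ((Ideal.eq_top_iff_one _).2 ?_)))
    rw [Submodule.mem_colon_singleton, Submodule.mem_bot, ← Submodule.Quotient.mk_smul,
      Submodule.Quotient.mk_eq_zero]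
    exact h3
  · have ha' : algebraMap B Ox a ∈ maximalIdeal Ox := by
      rw [← IsLocalization.AtPrime.map_eq_maximalIdeal q Ox]
      exact Ideal.mem_map_of_mem _ ha
    rw [hx₀] at ha'
    obtain ⟨k, hk⟩ := ha'
    rw [Submodule.mem_colon_singleton, Submodule.mem_bot, ← Submodule.Quotient.mk_smul,
      Submodule.Quotient.mk_eq_zero] at hk
    have h1 : g (a ^ k • n) ∈ m • (⊤ : Submodule Ox M) := by
      rw [map_smul, show g n = algebraMap B Ox (s : B) • z by rw [algebraMap_smul]; exact hns.symm,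
        ← algebraMap_smul Ox (a ^ k), smul_comm, map_pow]
      exact Submodule.smul_mem _ _ hk
    obtain ⟨v, hv, x, hx, hvx⟩ := hout _ h1
    rw [← map_smul] at hvx
    obtain ⟨c, hc⟩ := (IsLocalizedModule.eq_iff_exists q.primeCompl g).1 hvx
    refine ⟨k, (c : B) * v, fun h' => ((inferInstance : q.IsPrime).mem_or_mem h').elim c.2 hv, ?_⟩
    rw [mul_smul, mul_smul, show (c : B) • v • a ^ k • n = (c : B) • x from hc]
    exact hJ _ _ hx

/-- An algebraically independent family of the size of the transcendence degree. -/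
theorem exists_indep_of_trdeg {k C : Type u} [CommRing k] [CommRing C] [Algebra k C] [IsDomain C]
    (hinj : Function.Injective (algebraMap k C)) {d : ℕ} (htr : Algebra.trdeg k C = d) :
    ∃ b : Fin d → C, AlgebraicIndependent k b := by
  haveI : Nontrivial k := (algebraMap k C).domain_nontrivial
  haveI : FaithfulSMul k C := (faithfulSMul_iff_algebraMap_injective _ _).2 hinj
  obtain ⟨s, hs⟩ := exists_isTranscendenceBasis k C
  have hcard : Cardinal.mk s = d := by rw [hs.cardinalMk_eq_trdeg, htr]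
  haveI : Finite s := Cardinal.lt_aleph0_iff_finite.1 (by rw [hcard]; exact Cardinal.natCast_lt_aleph0)
  haveI := Fintype.ofFinite s
  have hc : Fintype.card s = d := by exact_mod_cast (Cardinal.mk_fintype s).symm.trans hcard
  exact ⟨_, hs.1.comp _ ((Fintype.equivFinOfCardEq hc).symm.injective)⟩

/-- The transcendence degree at a point of flatness is at most the one at a top section's prime. -/
theorem trdeg_le_of_top {A B N : Type u} [CommRing A] [CommRing B] [Algebra A B] [Algebra.FiniteType A B]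
    [AddCommGroup N] [Module B N] [Module A N] [IsScalarTower A B N] [Module.Finite B N]
    (p : Ideal A) [p.IsPrime] (p' : Ideal A) [p'.IsPrime] (q' : Ideal B) [q'.IsPrime] [q'.LiesOver p']
    (t : Ideal B) [t.IsPrime] (hqt : q' ≤ t) [t.LiesOver p]
    (hx : Module.Flat A (LocalizedModule t.primeCompl N)) (n : N) (hn : IsTop p' q' n)
    {d : ℕ} (htr : Algebra.trdeg (A ⧸ p) (B ⧸ t) = d) :
    (d : Cardinal) ≤ Algebra.trdeg (A ⧸ p') (B ⧸ q') := by
  have hinj : Function.Injective (algebraMap (A ⧸ p) (B ⧸ t)) := (injective_iff_map_eq_zero _).2 fun a ha => by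
    obtain ⟨a, rfl⟩ := Ideal.Quotient.mk_surjective a
    rw [Ideal.Quotient.algebraMap_mk_of_liesOver, Ideal.Quotient.eq_zero_iff_mem] at ha
    exact Ideal.Quotient.eq_zero_iff_mem.2 ((Ideal.mem_of_liesOver t p a).2 ha)
  obtain ⟨bq, hbq⟩ := exists_indep_of_trdeg hinj htr
  choose b hbb using fun i : Fin d => Ideal.Quotient.mk_surjective (bq i)
  have hind : AlgebraicIndependent (A ⧸ p) (fun i => Ideal.Quotient.mk t (b i)) := by
    rw [funext hbb]
    exact hbq
  have hmk : ∀ (I : Ideal B) (J : Ideal A) [I.LiesOver J] (Q : MvPolynomial (Fin d) A),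
      MvPolynomial.aeval (R := A ⧸ J) (fun i => Ideal.Quotient.mk I (b i))
        (MvPolynomial.map (Ideal.Quotient.mk J) Q) = Ideal.Quotient.mk I (MvPolynomial.aeval b Q) := by
    intro I J _ Q
    rw [show (Ideal.Quotient.mk J : A →+* A ⧸ J) = algebraMap _ _ from rfl,
      MvPolynomial.aeval_map_algebraMap]
    exact (DFunLike.congr_fun (MvPolynomial.comp_aeval b (Ideal.Quotient.mkₐ A I)) Q).symm
  have key := coeff_mem p p' q' t hqt hx n hn b fun Q hQ m => by
    have h0 := hind.eq_zero_of_aeval_eq_zero (MvPolynomial.map (Ideal.Quotient.mk p) Q)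
      (by rw [hmk t p Q, Ideal.Quotient.eq_zero_iff_mem]; exact hQ)
    have h1 := congrArg (MvPolynomial.coeff m) h0
    rwa [MvPolynomial.coeff_map, MvPolynomial.coeff_zero, Ideal.Quotient.eq_zero_iff_mem] at h1
  have hind' : AlgebraicIndependent (A ⧸ p') (fun i => Ideal.Quotient.mk q' (b i)) := by
    rw [algebraicIndependent_iff]
    intro Q hQ
    obtain ⟨Q, rfl⟩ := MvPolynomial.map_surjective (Ideal.Quotient.mk p') Ideal.Quotient.mk_surjective Q
    rw [hmk q' p' Q, Ideal.Quotient.eq_zero_iff_mem] at hQ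
    ext m
    rw [MvPolynomial.coeff_map, MvPolynomial.coeff_zero, Ideal.Quotient.eq_zero_iff_mem]
    exact key Q hQ m
  simpa using hind'.lift_cardinalMk_le_trdeg

/-- Along a point of flatness the relative dimension does not exceed that of a relative associated
point above it. -/
theorem resTrdeg_le [LocallyOfFiniteType f] (hF : CohB1.IsFT F) {y x : X} (hy : y ∈ MoreMor.relAss f F)
    (hyx : y ⤳ x) (hx : FlatMod.IsFlatOverAt f F x) (d : ℕ) (hd : Dual3.resTrdeg f x = d) :
    (d : Cardinal) ≤ Dual3.resTrdeg f y := by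
  classical
  obtain ⟨V, hV, hxV, -⟩ := exists_isAffineOpen_mem_and_subset (show f x ∈ (⊤ : S.Opens) from trivial)
  obtain ⟨U, hU, hxU, e⟩ := exists_isAffineOpen_mem_and_subset (show x ∈ f ⁻¹ᵁ V from hxV)
  have hyU : y ∈ U := hyx.mem_open U.2 hxU
  letI : Algebra Γ(S, V) Γ(X, U) := (f.appLE V U e).hom.toAlgebra
  letI : Module Γ(S, V) Γ(F, U) := Module.compHom _ (algebraMap Γ(S, V) Γ(X, U))
  haveI : IsScalarTower Γ(S, V) Γ(X, U) Γ(F, U) := IsScalarTower.of_algebraMap_smul fun _ _ => rfl
  haveI : Algebra.FiniteType Γ(S, V) Γ(X, U) :=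
    HasRingHomProperty.appLE @LocallyOfFiniteType f inferInstance ⟨V, hV⟩ ⟨U, hU⟩ e
  haveI := QCoh.moduleFinite_of_isFiniteType F hF hU
  let q' := WeakAss.primeAt y hyU
  let p' := WeakAss.primeAt (f y) (e hyU)
  let t := WeakAss.primeAt x hxU
  let p := WeakAss.primeAt (f x) (e hxU)
  haveI : q'.LiesOver p' := ⟨(GrothLib.RelAssCrit8.comap_primeAt f e y hyU).symm⟩
  haveI : t.LiesOver p := ⟨(GrothLib.RelAssCrit8.comap_primeAt f e x hxU).symm⟩
  have hqt : q' ≤ t := fun a ha => by
    by_contra hne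
    exact (WeakAss.notMem_primeAt_iff.2 (hyx.mem_open (X.basicOpen a).2 (WeakAss.notMem_primeAt_iff.1 hne))) ha
  rw [FlatFP.isFlatOverAt_iff f F hV hU e hxU rfl] at hx
  obtain ⟨n, hn⟩ := exists_isTop f F hV hU e y hyU rfl hy
  have htr : Algebra.trdeg (Γ(S, V) ⧸ p) (Γ(X, U) ⧸ t) = d :=
    (GrothLib.QSec28.trdeg_quotient_eq_resTrdeg f hV hU e x hxU rfl p t
      (congrArg PrimeSpectrum.asIdeal (QCoh.primeAt_eq_primeIdealOf hV (e hxU)))
      (congrArg PrimeSpectrum.asIdeal (QCoh.primeAt_eq_primeIdealOf hU hxU))).trans hd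
  rw [← GrothLib.QSec28.trdeg_quotient_eq_resTrdeg f hV hU e y hyU rfl p' q'
    (congrArg PrimeSpectrum.asIdeal (QCoh.primeAt_eq_primeIdealOf hV (e hyU)))
    (congrArg PrimeSpectrum.asIdeal (QCoh.primeAt_eq_primeIdealOf hU hyU))]
  exact trdeg_le_of_top p p' q' t hqt hx n hn htr

end GrothLib.RelAssDim8
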