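import Groth.Agent.Lib.RG6.Specialize
import Groth.Agent.Lib.RG6.FlatAt
import Groth.Agent.Lib.FibreFlat.EssFP
import Groth.Agent.Lib.FibreFlat.StalkAlg
import Groth.Agent.Lib.FibreFlat.Open
import Mathlib.RingTheory.Flat.Localization

/-!
# Algebraic independence at a flat point is inherited by a relative associated point above it
-/

set_option autoImplicit false
set_option backward.isDefEq.respectTransparency false
set_option linter.style.haveILetI false
set_option maxHeartbeats 1000000

universe u

open TensorProduct MvPolynomial IsLocalRing GrothLib.FibreFlat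

namespace GrothLib.RelAssDim8

/-- A module on which the nonzero elements of a domain act bijectively is flat. -/
theorem flat_of_bijective_smul {D X : Type u} [CommRing D] [IsDomain D] [AddCommGroup X] [Module D X]
    (h : ∀ d : D, d ≠ 0 → Function.Bijective fun x : X => d • x) : Module.Flat D X := by
  haveI : IsLocalizedModule (nonZeroDivisors D) (LinearMap.id : X →ₗ[D] X) :=
    { map_units := fun s => (Module.End.isUnit_iff _).mpr (h s (nonZeroDivisors.coe_ne_zero s))
      surj := fun x => ⟨⟨x, 1⟩, by simp⟩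
      exists_of_eq := fun {x y} hxy => ⟨1, by simpa using hxy⟩ }
  let K := FractionRing D
  let e := IsLocalizedModule.iso (nonZeroDivisors D) (LinearMap.id : X →ₗ[D] X)
  haveI : Module.Flat D K := IsLocalization.flat K (nonZeroDivisors D)
  haveI : Module.Flat D (LocalizedModule (nonZeroDivisors D) X) :=
    Module.Flat.trans D K (LocalizedModule (nonZeroDivisors D) X)
  exact Module.Flat.of_linearEquiv e.symm

/-- An element regular modulo a prime acts injectively modulo it on a flat module. -/
theorem mem_smul_of_flat {S M : Type u} [CommRing S] [AddCommGroup M] [Module S M] [Module.Flat S M]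
    (𝔭 : Ideal S) [𝔭.IsPrime] {s : S} (hs : s ∉ 𝔭) {x : M} (hx : s • x ∈ 𝔭 • (⊤ : Submodule S M)) :
    x ∈ 𝔭 • (⊤ : Submodule S M) := by
  let f : (S ⧸ 𝔭) →ₗ[S] (S ⧸ 𝔭) := LinearMap.lsmul S (S ⧸ 𝔭) s
  have hf : Function.Injective f := (injective_iff_map_eq_zero f).mpr fun z hz => by
    obtain ⟨z, rfl⟩ := Ideal.Quotient.mk_surjective z
    have hz' : Ideal.Quotient.mk 𝔭 (s * z) = 0 := hz
    rw [Ideal.Quotient.eq_zero_iff_mem] at hz' ⊢
    exact (‹𝔭.IsPrime›.mem_or_mem hz').resolve_left hs
  have h0 : f.rTensor M ((1 : S ⧸ 𝔭) ⊗ₜ[S] x) = 0 := by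
    apply (quotTensorEquivQuotSMul M 𝔭).injective
    rw [LinearMap.rTensor_tmul, map_zero,
      show f 1 = Ideal.Quotient.mk 𝔭 s from by simp [f, Algebra.smul_def],
      quotTensorEquivQuotSMul_mk_tmul, Submodule.Quotient.mk_eq_zero]
    exact hx
  have h1 := Module.Flat.rTensor_preserves_injective_linearMap (M := M) f hf (h0.trans (map_zero _).symm)
  have h2 := congrArg (quotTensorEquivQuotSMul M 𝔭) h1
  rw [map_zero, ← map_one (Ideal.Quotient.mk 𝔭), quotTensorEquivQuotSMul_mk_tmul, one_smul,
    Submodule.Quotient.mk_eq_zero] at h2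
  exact h2

section

variable {A B : Type u} [CommRing A] [CommRing B] [Algebra A B]
  {N : Type u} [AddCommGroup N] [Module B N] [Module A N] [IsScalarTower A B N]

/-- The condition on an element of the fibre module: it is non-zero at `q` and killed by powers of `q`. -/
def IsTop (p : Ideal A) (q : Ideal B) (n : N) : Prop :=
  (∀ u ∉ q, u • n ∉ p • (⊤ : Submodule A N)) ∧
    ∀ a ∈ q, ∃ k : ℕ, ∃ u ∉ q, (u * a ^ k) • n ∈ p • (⊤ : Submodule A N)

/-- The main step, for an algebra of finite presentation. -/
theorem coeff_mem_of_fp [Algebra.FinitePresentation A B] [Module.Finite B N]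
    (p : Ideal A) [p.IsPrime] (p' : Ideal A) [p'.IsPrime] (q' : Ideal B) [q'.IsPrime] [q'.LiesOver p']
    (t : Ideal B) [t.IsPrime] (hqt : q' ≤ t) [t.LiesOver p]
    (hflat : Module.Flat A (LocalizedModule t.primeCompl N))
    (n : N) (hn : IsTop p' q' n)
    {e : ℕ} (b : Fin e → B) (hb : ∀ P : MvPolynomial (Fin e) A, aeval b P ∈ t → ∀ m, P.coeff m ∈ p)
    (P : MvPolynomial (Fin e) A) (hP : aeval b P ∈ q') : ∀ m, P.coeff m ∈ p' := by
  classical
  obtain rfl : p = t.comap (algebraMap A B) := t.over_def p
  let p : Ideal A := t.comap (algebraMap A B)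
  by_contra hne
  push Not at hne
  obtain ⟨m₁, hm₁⟩ := hne
  have hpp : p' ≤ p := fun a ha =>
    (Ideal.mem_of_liesOver t p a).2 (hqt ((Ideal.mem_of_liesOver q' p' a).1 ha))
  obtain ⟨R, _, _, hRloc, hRlocal⟩ := exists_atPrime p
  let S' := Localization.AtPrime t
  obtain ⟨ψ, hψ, hl⟩ := exists_localHom (algebraMap A B) t R S'
  letI : Algebra R S' := ψ.toAlgebra
  haveI : IsScalarTower A R S' := IsScalarTower.of_algebraMap_eq fun x => by
    rw [IsScalarTower.algebraMap_apply A B S']
    exact (hψ x).symm
  haveI : IsLocalHom (algebraMap R S') := hl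
  let M := LocalizedModule t.primeCompl N
  let ι : N →ₗ[B] M := LocalizedModule.mkLinearMap t.primeCompl N
  letI : Module R M := Module.compHom M (algebraMap R S')
  haveI : IsScalarTower R S' M := IsScalarTower.of_algebraMap_smul fun _ _ => rfl
  haveI : IsScalarTower A R M := IsScalarTower.of_algebraMap_smul fun a x => by
    rw [← algebraMap_smul S' (algebraMap A R a) x, ← IsScalarTower.algebraMap_apply,
      IsScalarTower.algebraMap_apply A B S', algebraMap_smul, algebraMap_smul]
  haveI : Module.Flat R M := (Module.flat_iff_of_isLocalization R p.primeCompl M).mpr hflat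
  haveI : Module.FinitePresentation S' M := GrothLib.RG6.fp_of_flatAt N t hflat
  have hess : CAlgX.IsEssFinitePresentation R S' :=
    isEssFinitePresentation_localization (R := A) (A := B) p.primeCompl t.primeCompl
  let S := MvPolynomial (Fin e) R
  let bb : Fin e → S' := fun i => algebraMap B S' (b i)
  let α : S →ₐ[R] S' := aeval bb
  letI : Algebra S S' := α.toRingHom.toAlgebra
  haveI : IsScalarTower R S S' := IsScalarTower.of_algebraMap_eq fun x => (α.commutes x).symm
  letI : Module S M := Module.compHom M (algebraMap S S')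
  haveI : IsScalarTower S S' M := IsScalarTower.of_algebraMap_smul fun _ _ => rfl
  haveI : IsScalarTower R S M := IsScalarTower.of_algebraMap_smul fun r x => by
    change algebraMap S S' (algebraMap R S r) • x = r • x
    rw [← IsScalarTower.algebraMap_apply R S S', algebraMap_smul]
  have hα : ∀ Q : MvPolynomial (Fin e) A, α (MvPolynomial.map (algebraMap A R) Q) = algebraMap B S' (aeval b Q) := by
    intro Q
    change aeval (R := R) bb (MvPolynomial.map (algebraMap A R) Q) = _
    rw [MvPolynomial.aeval_map_algebraMap]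
    exact (MvPolynomial.aeval_algebraMap_apply (B := S') b Q)
  let mS : Ideal S := (maximalIdeal R).map (algebraMap R S)
  have hmS : ∀ s : S, s ∈ mS ↔ ∀ m, s.coeff m ∈ maximalIdeal R := fun s => MvPolynomial.mem_map_C_iff
  have hunit : ∀ s : S, s ∉ mS → IsUnit (α s) := by
    intro s hs
    obtain ⟨⟨r, hr⟩, hint⟩ := IsLocalization.exist_integer_multiples p.primeCompl s.support fun m => s.coeff m
    choose a ha using hint
    let Q : MvPolynomial (Fin e) A := ∑ m ∈ s.support.attach, MvPolynomial.monomial m.1 (a m.1 m.2)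
    have hQ : MvPolynomial.map (algebraMap A R) Q = MvPolynomial.C (algebraMap A R r) * s := by
      simp only [Q, map_sum, MvPolynomial.map_monomial, ha]
      conv_rhs => rw [s.as_sum, Finset.mul_sum, ← Finset.sum_attach]
      refine Finset.sum_congr rfl fun m _ => ?_
      rw [MvPolynomial.C_mul_monomial, Algebra.smul_def]
    have hQt : aeval b Q ∉ t := fun h => hs ((hmS s).2 fun m => by
      have h1 := Ideal.mem_map_of_mem (algebraMap A R) (hb Q h m)
      rw [IsLocalization.AtPrime.map_eq_maximalIdeal p R, ← MvPolynomial.coeff_map, hQ,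
        MvPolynomial.coeff_C_mul] at h1
      exact ((maximalIdeal.isMaximal R).isPrime.mem_or_mem h1).resolve_left fun h2 =>
        h2 (IsLocalization.map_units R (⟨r, hr⟩ : p.primeCompl)))
    have h2 : IsUnit (α (MvPolynomial.C (algebraMap A R r) * s)) := by
      rw [← hQ, hα]
      exact IsLocalization.map_units S' (⟨aeval b Q, hQt⟩ : t.primeCompl)
    rw [map_mul] at h2
    exact isUnit_of_mul_isUnit_right h2
  haveI : mS.IsPrime := by
    have : mS = RingHom.ker (MvPolynomial.map (σ := Fin e) (residue R)) := by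
      rw [MvPolynomial.ker_map, IsLocalRing.ker_residue]
      rfl
    rw [this]
    exact RingHom.ker_isPrime _
  haveI : Module.Flat S M := by
    refine flat_of_fibre_localized (R := R) (S := S) (S' := S') (M := M) hess (AlgHom.id R S)
      (fun s => ⟨s, 1, isUnit_one, (mul_one s).trans rfl⟩) ?_
    refine flat_of_bijective_smul fun d hd => ?_
    obtain ⟨d, rfl⟩ := Ideal.Quotient.mk_surjective d
    have hdu := hunit d fun h => hd (Ideal.Quotient.eq_zero_iff_mem.2 h)
    obtain ⟨v, hv⟩ := hdu.exists_left_inv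
    have hlin : ∀ x : M, v • x ∈ mS • (⊤ : Submodule S M) ↔ v • x ∈ mS • (⊤ : Submodule S M) := fun x => Iff.rfl
    have hvm : ∀ x ∈ mS • (⊤ : Submodule S M), v • x ∈ mS • (⊤ : Submodule S M) := by
      intro x hx
      refine Submodule.smul_induction_on hx (fun a ha z _ => ?_) fun a b ha hb => by
        rw [smul_add]; exact add_mem ha hb
      rw [← algebraMap_smul S' a z, smul_smul, mul_comm, ← smul_smul, algebraMap_smul]
      exact Submodule.smul_mem_smul ha trivial
    refine ⟨fun x y hxy => ?_, fun y => ?_⟩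
    · obtain ⟨x, rfl⟩ := Submodule.Quotient.mk_surjective _ x
      obtain ⟨y, rfl⟩ := Submodule.Quotient.mk_surjective _ y
      have hxy' : (Submodule.Quotient.mk (d • x) : M ⧸ mS • (⊤ : Submodule S M)) = Submodule.Quotient.mk (d • y) := hxy
      rw [Submodule.Quotient.eq] at hxy' ⊢
      have := hvm _ hxy'
      rw [← smul_sub] at this
      change v • (α d • (x - y)) ∈ _ at this
      rwa [smul_smul, hv, one_smul] at this
    · obtain ⟨y, rfl⟩ := Submodule.Quotient.mk_surjective _ y
      refine ⟨Submodule.Quotient.mk (v • y), ?_⟩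
      change (Submodule.Quotient.mk (α d • (v • y)) : M ⧸ mS • (⊤ : Submodule S M)) = _
      rw [smul_smul, mul_comm, hv, one_smul]
  -- the prime of `S` over `p'`
  let pR : Ideal R := p'.map (algebraMap A R)
  have hdisj : Disjoint (p.primeCompl : Set A) (p' : Set A) :=
    Set.disjoint_left.2 fun a ha ha' => ha (hpp ha')
  haveI : pR.IsPrime := IsLocalization.isPrime_of_isPrime_disjoint p.primeCompl R p' inferInstance hdisj
  let 𝔭 : Ideal S := pR.map (algebraMap R S)
  haveI : 𝔭.IsPrime := by
    have : 𝔭 = RingHom.ker (MvPolynomial.map (σ := Fin e) (Ideal.Quotient.mk pR)) := by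
      rw [MvPolynomial.ker_map, Ideal.mk_ker]
      rfl
    rw [this]
    exact RingHom.ker_isPrime _
  obtain ⟨k, u, hu, hun⟩ := hn.2 _ hP
  let PS : S := MvPolynomial.map (algebraMap A R) P
  have hPS : PS ∉ 𝔭 := fun h => by
    have h1 : (PS.coeff m₁) ∈ pR := MvPolynomial.mem_map_C_iff.1 h m₁
    rw [MvPolynomial.coeff_map] at h1
    refine hm₁ ?_
    have h2 : P.coeff m₁ ∈ pR.comap (algebraMap A R) := h1
    change P.coeff m₁ ∈ (p'.map (algebraMap A R)).under A at h2
    rwa [IsLocalization.under_map_of_isPrime_disjoint p.primeCompl R inferInstance hdisj] at h2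
  have hin : ∀ x ∈ p' • (⊤ : Submodule A N), ι x ∈ 𝔭 • (⊤ : Submodule S M) := by
    intro x hx
    refine Submodule.smul_induction_on hx (fun a ha z _ => ?_) fun a b ha hb => by
      rw [map_add]; exact add_mem ha hb
    rw [LinearMap.map_smul_of_tower, ← algebraMap_smul R a (ι z), ← algebraMap_smul S (algebraMap A R a) (ι z)]
    exact Submodule.smul_mem_smul (Ideal.mem_map_of_mem _ (Ideal.mem_map_of_mem _ ha)) trivial
  have h1 : PS ^ k • ι (u • n) ∈ 𝔭 • (⊤ : Submodule S M) := by
    have h2 : PS ^ k • ι (u • n) = ι ((u * aeval b P ^ k) • n) := by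
      change algebraMap S S' (PS ^ k) • ι (u • n) = _
      rw [map_pow, show algebraMap S S' PS = algebraMap B S' (aeval b P) from hα P, ← map_pow,
        algebraMap_smul, ← map_smul, smul_smul, mul_comm]
    rw [h2]
    exact hin _ hun
  have h3 := mem_smul_of_flat 𝔭 (fun h => hPS (Ideal.IsPrime.mem_of_pow_mem inferInstance k h)) h1
  -- back to `N`
  let J : Submodule A N := p' • ⊤
  have hJB : ∀ (c : B), ∀ x ∈ J, c • x ∈ J := by
    intro c x hx
    refine Submodule.smul_induction_on hx (fun a ha z _ => ?_) fun a b ha hb => by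
      rw [smul_add]; exact add_mem ha hb
    rw [smul_comm]
    exact Submodule.smul_mem_smul ha trivial
  have hout : ∀ y ∈ 𝔭 • (⊤ : Submodule S M), ∃ v ∉ t, ∃ x ∈ J, v • y = ι x := by
    intro y hy
    refine Submodule.smul_induction_on hy (fun a ha z _ => ?_) fun a b ha hb => ?_
    · rw [show 𝔭 = p'.map (algebraMap A S) by
        rw [IsScalarTower.algebraMap_eq A R S, ← Ideal.map_map]] at ha
      induction ha using Submodule.span_induction generalizing z with
      | mem a ha =>
        obtain ⟨r, hr, rfl⟩ := ha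
        obtain ⟨⟨x, v⟩, hxv⟩ := IsLocalizedModule.surj t.primeCompl ι z
        refine ⟨v.1, v.2, r • x, Submodule.smul_mem_smul hr trivial, ?_⟩
        rw [IsScalarTower.algebraMap_apply A R S, algebraMap_smul, algebraMap_smul, smul_comm,
          LinearMap.map_smul_of_tower, ← hxv]
        rfl
      | zero => exact ⟨1, fun h => ‹t.IsPrime›.ne_top ((Ideal.eq_top_iff_one _).2 h), 0, zero_mem _, by simp⟩
      | add a a' _ _ ha ha' =>
        obtain ⟨v, hv, x, hx, hvx⟩ := ha z trivial
        obtain ⟨v', hv', x', hx', hvx'⟩ := ha' z trivial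
        refine ⟨v * v', fun h => (‹t.IsPrime›.mem_or_mem h).elim hv hv', v' • x + v • x',
          add_mem (hJB _ _ hx) (hJB _ _ hx'), ?_⟩
        rw [add_smul, smul_add, map_add, map_smul, map_smul, ← hvx, ← hvx', smul_smul, smul_smul,
          mul_comm v' v]
      | smul c a _ ha =>
        obtain ⟨v, hv, x, hx, hvx⟩ := ha (c • z) trivial
        exact ⟨v, hv, x, hx, by rw [smul_eq_mul, mul_comm, mul_smul, hvx]⟩
    · obtain ⟨v, hv, x, hx, hvx⟩ := ha
      obtain ⟨v', hv', x', hx', hvx'⟩ := hb
      refine ⟨v * v', fun h => (‹t.IsPrime›.mem_or_mem h).elim hv hv', v' • x + v • x',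
        add_mem (hJB _ _ hx) (hJB _ _ hx'), ?_⟩
      rw [map_add, map_smul, map_smul, ← hvx, ← hvx', smul_add, smul_smul, smul_smul, mul_comm v' v]
  obtain ⟨v, hv, x, hx, hvx⟩ := hout _ h3
  rw [← map_smul] at hvx
  obtain ⟨c, hc⟩ := (IsLocalizedModule.eq_iff_exists t.primeCompl ι).1 hvx
  refine hn.1 ((c : B) * v * u) (fun h => ?_) ?_
  · rcases ‹q'.IsPrime›.mem_or_mem h with h | h
    · rcases ‹q'.IsPrime›.mem_or_mem h with h | h
      · exact c.2 (hqt h)
      · exact hv (hqt h)
    · exact hu h
  · rw [mul_smul, mul_smul, show (c : B) • v • u • n = (c : B) • x from hc]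
    exact hJB _ _ hx

/-- Elements independent at a flat point are independent at a relative associated point above it. -/
theorem coeff_mem [Algebra.FiniteType A B] [Module.Finite B N]
    (p : Ideal A) [p.IsPrime] (p' : Ideal A) [p'.IsPrime] (q' : Ideal B) [q'.IsPrime] [q'.LiesOver p']
    (t : Ideal B) [t.IsPrime] (hqt : q' ≤ t) [t.LiesOver p]
    (hflat : Module.Flat A (LocalizedModule t.primeCompl N))
    (n : N) (hn : IsTop p' q' n)
    {e : ℕ} (b : Fin e → B) (hb : ∀ P : MvPolynomial (Fin e) A, aeval b P ∈ t → ∀ m, P.coeff m ∈ p)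
    (P : MvPolynomial (Fin e) A) (hP : aeval b P ∈ q') : ∀ m, P.coeff m ∈ p' := by
  obtain ⟨k, π, hπ⟩ := Algebra.FiniteType.iff_quotient_mvPolynomial''.1 ‹Algebra.FiniteType A B›
  let T := MvPolynomial (Fin k) A
  letI : Algebra T B := π.toRingHom.toAlgebra
  haveI : IsScalarTower A T B := IsScalarTower.of_algebraMap_eq fun c => (π.commutes c).symm
  letI : Module T N := Module.compHom N π.toRingHom
  haveI : IsScalarTower T B N := IsScalarTower.of_compHom _ _ _
  haveI : IsScalarTower A T N := IsScalarTower.of_algebraMap_smul fun c x => by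
    show π (algebraMap A T c) • x = c • x
    rw [π.commutes, algebraMap_smul]
  haveI : Module.Finite T B := Module.Finite.of_surjective (Algebra.linearMap T B) hπ
  haveI : Module.Finite T N := Module.Finite.trans B N
  let tT := t.under T
  let qT := q'.under T
  haveI : t.LiesOver tT := ⟨rfl⟩
  haveI : tT.LiesOver p := ⟨by
    show p = (t.comap (algebraMap T B)).comap (algebraMap A T)
    rw [Ideal.comap_comap, ← IsScalarTower.algebraMap_eq]
    exact t.over_def p⟩
  haveI : qT.LiesOver p' := ⟨by
    show p' = (q'.comap (algebraMap T B)).comap (algebraMap A T)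
    rw [Ideal.comap_comap, ← IsScalarTower.algebraMap_eq]
    exact q'.over_def p'⟩
  haveI := GrothLib.RG6.isLocalizedModule_of_surjective (P := T) hπ tT t (LocalizedModule.mkLinearMap t.primeCompl N)
  have hflat' : Module.Flat A (LocalizedModule tT.primeCompl N) := by
    haveI := hflat
    exact Module.Flat.of_linearEquiv ((IsLocalizedModule.linearEquiv tT.primeCompl
      (LocalizedModule.mkLinearMap tT.primeCompl N)
      ((LocalizedModule.mkLinearMap t.primeCompl N).restrictScalars T)).restrictScalars A)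
  choose c hc using fun i => hπ (b i)
  have hQ : ∀ Q : MvPolynomial (Fin e) A, π (aeval c Q) = aeval b Q := fun Q => by
    rw [← funext hc]
    exact DFunLike.congr_fun (MvPolynomial.comp_aeval c π) Q
  refine coeff_mem_of_fp (B := T) p p' qT tT (Ideal.comap_mono hqt) hflat' n ⟨fun u hu => ?_, fun a ha => ?_⟩ c
    (fun Q hQt => hb Q (by rw [← hQ]; exact hQt)) P (show π (aeval c P) ∈ q' by rw [hQ]; exact hP)
  · exact hn.1 (π u) hu
  · obtain ⟨k, u, hu, h⟩ := hn.2 (π a) ha
    obtain ⟨u, rfl⟩ := hπ u
    refine ⟨k, u, hu, ?_⟩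
    change π (u * a ^ k) • n ∈ _
    rw [map_mul, map_pow]
    exact h

end

end GrothLib.RelAssDim8
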